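import Groth.Agent.Lib.Hensel.PairHull
import Groth.Agent.Lib.Hensel.HFP
import Groth.Agent.Lib.HSheaf4.Main

/-!
# Henselizations at an element, in terms of ring maps, and directed unions of henselian pairs
-/

set_option autoImplicit false

universe u

noncomputable section

namespace GrothLib.HHfpLoc4

variable {A : Type u} [CommRing A] {T : Type u} [CommRing T] [Algebra A T] {H : Type u} [CommRing H]

/-- `c : T → H` is the henselization of `(T_x, I T_x)`. -/
structure IsHA (I : Ideal A) (x : T) (c : T →+* H) : Prop where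
  unit : IsUnit (c x)
  hens : HenselianRing H (I.map (c.comp (algebraMap A T)))
  univ : ∀ (C : Type u) [CommRing C] (J : Ideal C) (g : T →+* C), HenselianRing C J →
    I.map (g.comp (algebraMap A T)) ≤ J → IsUnit (g x) → ∃! h : H →+* C, h.comp c = g

namespace IsHA

variable {I : Ideal A} {x : T} {c : T →+* H} (hc : IsHA I x c) {C : Type u} [CommRing C]

include hc in
theorem exists_map (J : Ideal C) (g : T →+* C) (hJ : HenselianRing C J)
    (hI : I.map (g.comp (algebraMap A T)) ≤ J) (hx : IsUnit (g x)) : ∃ h : H →+* C, h.comp c = g :=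
  (hc.univ C J g hJ hI hx).exists

include hc in
theorem ext (J : Ideal C) {g₁ g₂ : H →+* C} (hJ : HenselianRing C J)
    (hI : I.map ((g₁.comp c).comp (algebraMap A T)) ≤ J) (h : g₁.comp c = g₂.comp c) : g₁ = g₂ :=
  (hc.univ C J (g₁.comp c) hJ hI (hc.unit.map g₁)).unique rfl h.symm

end IsHA

theorem isHA_of_away {I : Ideal A} (x : T) [Algebra (Localization.Away x) H] [Algebra T H]
    [IsScalarTower T (Localization.Away x) H]
    (hH : Hens2.IsPairHenselization (Localization.Away x) (I.map (algebraMap A (Localization.Away x))) H) :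
    IsHA I x (algebraMap T H) := by
  have e : (algebraMap (Localization.Away x) H).comp (algebraMap T (Localization.Away x)) = algebraMap T H :=
    (IsScalarTower.algebraMap_eq T _ H).symm
  have eA : (algebraMap T (Localization.Away x)).comp (algebraMap A T) = algebraMap A (Localization.Away x) :=
    (IsScalarTower.algebraMap_eq A T _).symm
  refine ⟨e ▸ (IsLocalization.Away.algebraMap_isUnit x).map (algebraMap _ H), ?_, fun C _ J g hJ hI hx => ?_⟩
  · have h := hH.1
    rw [Ideal.map_map, ← eA, ← RingHom.comp_assoc, e] at h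
    exact h
  · have hl := IsLocalization.Away.lift_comp (S := Localization.Away x) x hx
    obtain ⟨h, hh, hu⟩ := hH.2 C J (IsLocalization.Away.lift x hx) hJ (by
      rw [Ideal.map_map, ← eA, ← RingHom.comp_assoc, hl]; exact hI)
    refine ⟨h, ?_, fun h' hh' => hu h' ?_⟩
    · show h.comp (algebraMap T H) = g
      rw [← e, ← RingHom.comp_assoc, hh]; exact hl
    · refine IsLocalization.ringHom_ext (Submonoid.powers x) ?_
      rw [RingHom.comp_assoc, e, hh', hl]

theorem isHA_of_pair {I : Ideal A} [Algebra T H]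
    (hH : Hens2.IsPairHenselization T (I.map (algebraMap A T)) H) : IsHA I (1 : T) (algebraMap T H) := by
  refine ⟨by rw [map_one]; exact isUnit_one, ?_, fun C _ J g hJ hI _ => ?_⟩
  · have h := hH.1
    rwa [Ideal.map_map] at h
  · exact hH.2 C J g hJ (by rwa [Ideal.map_map])

section construction

variable (I : Ideal A) (x : T)

/-- The henselization of `(T_x, I T_x)`. -/
def HA : Type u :=
  GrothLib.Hensel.Hull (Localization.Away x) (Localization.Away x ⧸ I.map (algebraMap A (Localization.Away x)))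

instance : CommRing (HA I x) :=
  inferInstanceAs (CommRing (GrothLib.Hensel.Hull (Localization.Away x)
    (Localization.Away x ⧸ I.map (algebraMap A (Localization.Away x)))))

instance instAlgebraAway : Algebra (Localization.Away x) (HA I x) :=
  inferInstanceAs (Algebra (Localization.Away x) (GrothLib.Hensel.Hull (Localization.Away x)
    (Localization.Away x ⧸ I.map (algebraMap A (Localization.Away x)))))

instance instAlgebraSelf : Algebra T (HA I x) :=
  ((algebraMap (Localization.Away x) (HA I x)).comp (algebraMap T (Localization.Away x))).toAlgebra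

instance : IsScalarTower T (Localization.Away x) (HA I x) := IsScalarTower.of_algebraMap_eq' rfl

theorem isPairHenselization_HA :
    Hens2.IsPairHenselization (Localization.Away x) (I.map (algebraMap A (Localization.Away x))) (HA I x) :=
  GrothLib.Hensel.PairHull.isPairHenselization _ _

/-- The structure map. -/
def cHA : T →+* HA I x := algebraMap T (HA I x)

theorem isHA : IsHA I x (cHA I x) := isHA_of_away x (isPairHenselization_HA I x)

end construction

section union

variable {R : Type u} [CommRing R] {κ : Type u} [Nonempty κ] (I : Ideal A) (aR : A →+* R)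
  (W : κ → Subring R) (hdir : Directed (· ≤ ·) W) (ha : ∀ k a, aR a ∈ W k)

/-- The image of a henselian pair is henselian. -/
theorem henselianRing_range {S : Type u} [CommRing S] (J : Ideal S) [HenselianRing S J] (g : S →+* R) :
    HenselianRing g.range (J.map g.rangeRestrict) := by
  letI : Algebra S g.range := g.rangeRestrict.toAlgebra
  haveI : Algebra.IsIntegral S g.range := ⟨fun y => by
    obtain ⟨s, hs⟩ := g.rangeRestrict_surjective y
    exact hs ▸ isIntegral_algebraMap⟩
  exact GrothLib.Hensel.henselianRing_of_isIntegral J g.range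

include hdir ha in
/-- A directed union of henselian pairs is henselian. -/
theorem henselianRing_iSup
    (hh : ∀ k, HenselianRing (W k) (I.map (aR.codRestrict (W k) (ha k))))
    (hU : ∀ a, aR a ∈ ⨆ k, W k) :
    HenselianRing (⨆ k, W k : Subring R) (I.map (aR.codRestrict (⨆ k, W k) hU)) := by
  classical
  let U : Subring R := ⨆ k, W k
  let incl : ∀ k, W k →+* U := fun k => Subring.inclusion (le_iSup W k)
  have hincl : ∀ k, (I.map (aR.codRestrict (W k) (ha k))).map (incl k) = I.map (aR.codRestrict U hU) := fun k => by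
    rw [Ideal.map_map]; rfl
  have hmem : ∀ y : U, ∃ k, ∃ z : W k, incl k z = y := fun y => by
    obtain ⟨k, hk⟩ := (Subring.mem_iSup_of_directed hdir).1 y.2
    exact ⟨k, ⟨y.1, hk⟩, rfl⟩
  have hmono : ∀ k l, W k ≤ W l → ∀ z : W k, z ∈ I.map (aR.codRestrict (W k) (ha k)) →
      ∃ z' : W l, incl l z' = incl k z ∧ z' ∈ I.map (aR.codRestrict (W l) (ha l)) := fun k l hkl z hz =>
    ⟨Subring.inclusion hkl z, rfl, by
      have := Ideal.mem_map_of_mem (Subring.inclusion hkl) hz
      rw [Ideal.map_map] at this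
      exact this⟩
  have hJ : ∀ y ∈ I.map (aR.codRestrict U hU),
      ∃ k, ∃ z : W k, incl k z = y ∧ z ∈ I.map (aR.codRestrict (W k) (ha k)) := by
    intro y hy
    refine Submodule.span_induction ?_ ?_ ?_ ?_ hy
    · rintro _ ⟨a, haI, rfl⟩
      exact ⟨Classical.arbitrary κ, _, rfl, Ideal.mem_map_of_mem _ haI⟩
    · exact ⟨Classical.arbitrary κ, 0, map_zero _, Submodule.zero_mem _⟩
    · rintro y₁ y₂ _ _ ⟨k₁, z₁, e₁, h₁⟩ ⟨k₂, z₂, e₂, h₂⟩
      obtain ⟨l, hl₁, hl₂⟩ := hdir k₁ k₂
      obtain ⟨w₁, f₁, g₁⟩ := hmono k₁ l hl₁ z₁ h₁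
      obtain ⟨w₂, f₂, g₂⟩ := hmono k₂ l hl₂ z₂ h₂
      exact ⟨l, w₁ + w₂, by rw [map_add, f₁, f₂, e₁, e₂], Submodule.add_mem _ g₁ g₂⟩
    · rintro r y₁ _ ⟨k₁, z₁, e₁, h₁⟩
      obtain ⟨k₂, z₂, e₂⟩ := hmem r
      obtain ⟨l, hl₁, hl₂⟩ := hdir k₁ k₂
      obtain ⟨w₁, f₁, g₁⟩ := hmono k₁ l hl₁ z₁ h₁
      refine ⟨l, Subring.inclusion hl₂ z₂ * w₁, ?_, Ideal.mul_mem_left _ _ g₁⟩
      rw [map_mul, f₁, e₁, smul_eq_mul]
      exact congrArg (· * y₁) e₂
  constructor
  · intro y hy
    rw [Ideal.mem_jacobson_bot]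
    intro r
    obtain ⟨k₁, z₁, e₁, h₁⟩ := hJ y hy
    obtain ⟨k₂, z₂, e₂⟩ := hmem r
    obtain ⟨l, hl₁, hl₂⟩ := hdir k₁ k₂
    obtain ⟨w₁, f₁, g₁⟩ := hmono k₁ l hl₁ z₁ h₁
    have := (Ideal.mem_jacobson_bot.1 ((hh l).jac g₁) (Subring.inclusion hl₂ z₂)).map (incl l)
    rw [map_add, map_mul, map_one, f₁, e₁] at this
    rwa [show incl l (Subring.inclusion hl₂ z₂) = r from e₂] at this
  · intro f hf a₀ h₀ hu
    obtain ⟨v', hv⟩ := hu.exists_right_inv
    obtain ⟨v, rfl⟩ := Ideal.Quotient.mk_surjective v'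
    rw [← map_mul, ← map_one (Ideal.Quotient.mk _), Ideal.Quotient.eq] at hv
    choose kc zc ec using fun n => hmem (f.coeff n)
    obtain ⟨ka, za, ea⟩ := hmem a₀
    obtain ⟨kv, zv, ev⟩ := hmem v
    obtain ⟨k₀, z₀, e₀, g₀⟩ := hJ _ h₀
    obtain ⟨k₁, z₁, e₁, g₁⟩ := hJ _ hv
    obtain ⟨l, hl⟩ := hdir.finset_le (insert ka (insert kv (insert k₀ (insert k₁ (f.support.image kc)))))
    have hcoef : f ∈ Polynomial.lifts (incl l) := by
      rw [Polynomial.lifts_iff_coeff_lifts]
      intro n
      by_cases hn : n ∈ f.support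
      · have hk : W (kc n) ≤ W l := hl (kc n) (by
          simp only [Finset.mem_insert, Finset.mem_image]
          exact Or.inr (Or.inr (Or.inr (Or.inr ⟨n, hn, rfl⟩))))
        exact ⟨Subring.inclusion hk (zc n), ec n⟩
      · exact ⟨0, by rw [map_zero, Polynomial.notMem_support_iff.1 hn]⟩
    rcases subsingleton_or_nontrivial U with hs | hn
    · exact ⟨a₀, Subsingleton.elim (α := U) _ _, (show a₀ - a₀ ∈ _ from (sub_self a₀).symm ▸ Submodule.zero_mem _)⟩
    obtain ⟨p, hp, -, hpm⟩ := Polynomial.lifts_and_degree_eq_and_monic hcoef hf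
    obtain ⟨ba, eba, -⟩ : ∃ b : W l, incl l b = a₀ ∧ True :=
      ⟨Subring.inclusion (hl ka (by simp)) za, ea, trivial⟩
    obtain ⟨bv, ebv, -⟩ : ∃ b : W l, incl l b = v ∧ True :=
      ⟨Subring.inclusion (hl kv (by simp)) zv, ev, trivial⟩
    obtain ⟨w₀, f₀, m₀⟩ := hmono k₀ l (hl k₀ (by simp)) z₀ g₀
    obtain ⟨w₁, f₁, m₁⟩ := hmono k₁ l (hl k₁ (by simp)) z₁ g₁
    have hinj : Function.Injective (incl l) := Subring.inclusion_injective _
    have h₀' : p.eval ba ∈ I.map (aR.codRestrict (W l) (ha l)) := by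
      have : p.eval ba = w₀ := hinj (by
        rw [f₀, e₀, ← eba, ← hp, Polynomial.eval_map_apply])
      rwa [this]
    have h₁' : p.derivative.eval ba * bv - 1 ∈ I.map (aR.codRestrict (W l) (ha l)) := by
      have : p.derivative.eval ba * bv - 1 = w₁ := hinj (by
        rw [f₁, e₁, map_sub, map_mul, map_one, ebv, ← eba, ← hp, Polynomial.derivative_map,
          Polynomial.eval_map_apply])
      rwa [this]
    obtain ⟨b, hb, hb'⟩ := (hh l).is_henselian p hpm ba h₀' (IsUnit.of_mul_eq_one (Ideal.Quotient.mk _ bv) (by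
      rw [← map_mul, ← map_one (Ideal.Quotient.mk _), Ideal.Quotient.eq]; exact h₁'))
    refine ⟨incl l b, ?_, ?_⟩
    · rw [Polynomial.IsRoot, ← hp, Polynomial.eval_map_apply, hb.eq_zero, map_zero]
    · rw [← eba, ← map_sub, ← hincl l]
      exact Ideal.mem_map_of_mem _ hb'

end union

/-- A directed family of henselian images whose union contains the image of the base exhausts a
henselization. -/
theorem exists_mem_of_directed {I : Ideal A} {x : T} {c : T →+* H} (hc : IsHA I x c)
    {κ : Type u} [Nonempty κ] (W : κ → Subring H) (hdir : Directed (· ≤ ·) W)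
    (ha : ∀ k a, c.comp (algebraMap A T) a ∈ W k)
    (hh : ∀ k, HenselianRing (W k) (I.map ((c.comp (algebraMap A T)).codRestrict (W k) (ha k))))
    (hT : ∀ t, ∃ k, c t ∈ W k) (hx : ∃ k, ∃ y ∈ W k, c x * y = 1) (h : H) : ∃ k, h ∈ W k := by
  have hU : ∀ a, c.comp (algebraMap A T) a ∈ ⨆ k, W k := fun a =>
    le_iSup W (Classical.arbitrary κ) (ha _ a)
  have hT' : ∀ t, c t ∈ ⨆ k, W k := fun t => (hT t).elim fun k hk => le_iSup W k hk
  have hens := henselianRing_iSup I (c.comp (algebraMap A T)) W hdir ha hh hU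
  obtain ⟨k, y, hy, hxy⟩ := hx
  obtain ⟨g, hg⟩ := hc.exists_map _ (c.codRestrict (⨆ k, W k) hT') hens (le_of_eq rfl)
    (IsUnit.of_mul_eq_one ⟨y, le_iSup W k hy⟩ (Subtype.ext hxy))
  have : (⨆ k, W k).subtype.comp g = RingHom.id H := by
    refine hc.ext _ hc.hens ?_ ?_
    · refine le_of_eq ?_
      simp only [RingHom.comp_assoc]
      rw [← RingHom.comp_assoc (algebraMap A T) c g, hg]
      rfl
    · rw [RingHom.comp_assoc, hg]; rfl
  have hmem : h ∈ ⨆ k, W k := by
    have e : ((g h : (⨆ k, W k : Subring H)) : H) = h := RingHom.congr_fun this h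
    exact e ▸ (g h).2
  exact (Subring.mem_iSup_of_directed hdir).1 hmem

end GrothLib.HHfpLoc4
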