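import Groth.Agent.Lib.HHfpLoc4.Steps

/-!
# Henselian finite presentation is local on the source
-/

set_option autoImplicit false
set_option maxHeartbeats 1000000

universe u

noncomputable section

namespace GrothLib.HHfpLoc4

variable {A : Type u} [CommRing A] {I : Ideal A} {B : Type u} [CommRing B] [Algebra A B]
  {n : ℕ} {f : Fin n → B}
  {H : Fin n → Type u} [∀ i, CommRing (H i)] [∀ i, Algebra (Localization.Away (f i)) (H i)]
  [∀ i, Algebra B (H i)] [∀ i, IsScalarTower B (Localization.Away (f i)) (H i)]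

theorem map_comp_le {T T' H' : Type u} [CommRing T] [Algebra A T] [CommRing T'] [Algebra A T'] [CommRing H']
    (u : T →ₐ[A] T') (c' : T' →+* H') :
    I.map ((c'.comp u.toRingHom).comp (algebraMap A T)) ≤ I.map (c'.comp (algebraMap A T')) :=
  le_of_eq (congrArg (fun r => Ideal.map r I) (RingHom.ext fun a => congrArg c' (u.commutes a)))

theorem exists_kill_finset
    (hH : ∀ i, Hens2.IsPairHenselization (Localization.Away (f i))
      (I.map (algebraMap A (Localization.Away (f i)))) (H i))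
    {T : Type u} [CommRing T] [Algebra A T] [Algebra.FinitePresentation A T] (θ : T →ₐ[A] B) (x : Fin n → T)
    (hx : ∀ i, θ (x i) = f i) (π : ∀ i, HA I (x i) →+* H i)
    (hπ : ∀ i, (π i).comp (cHA I (x i)) = (algebraMap B (H i)).comp θ.toRingHom)
    (s : Finset (Σ i, HA I (x i))) (hs : ∀ p ∈ s, π p.1 p.2 = 0) :
    ∃ (T' : Type u) (_ : CommRing T') (_ : Algebra A T') (_ : Algebra.FinitePresentation A T')
      (u : T →ₐ[A] T') (θ' : T' →ₐ[A] B), θ'.comp u = θ ∧
      ∀ p ∈ s, ∀ h : HA I (x p.1) →+* HA I (u (x p.1)),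
        h.comp (cHA I (x p.1)) = (cHA I (u (x p.1))).comp u.toRingHom → h p.2 = 0 := by
  classical
  induction s using Finset.induction_on with
  | empty => exact ⟨T, inferInstance, inferInstance, inferInstance, AlgHom.id A T, θ, AlgHom.comp_id θ,
      fun p hp => absurd hp (Finset.notMem_empty p)⟩
  | @insert p s _ ih =>
    obtain ⟨T₁, _, _, _, u₁, θ₁, hθ₁, h₁⟩ := ih fun q hq => hs q (Finset.mem_insert_of_mem hq)
    have hθt : ∀ t, θ₁ (u₁ t) = θ t := AlgHom.congr_fun hθ₁
    obtain ⟨i, k⟩ := p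
    obtain ⟨h₀, hh₀⟩ := (isHA I (x i)).exists_map _ ((cHA I (u₁ (x i))).comp u₁.toRingHom)
      (isHA I (u₁ (x i))).hens
      (map_comp_le u₁ _)
      (isHA I (u₁ (x i))).unit
    obtain ⟨π₁, hπ₁⟩ := (isHA I (u₁ (x i))).exists_map _ ((algebraMap B (H i)).comp θ₁.toRingHom)
      (isHA_of_away (f i) (hH i)).hens
      (map_comp_le θ₁ _)
      (by show IsUnit (algebraMap B (H i) (θ₁ (u₁ (x i)))); rw [hθt, hx]; exact (isHA_of_away (f i) (hH i)).unit)
    have e : π₁.comp h₀ = π i := by
      have e0 : (π₁.comp h₀).comp (cHA I (x i)) = (algebraMap B (H i)).comp θ.toRingHom :=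
        RingHom.ext fun t => by
          show π₁ (h₀ (cHA I (x i) t)) = algebraMap B (H i) (θ t)
          rw [show h₀ (cHA I (x i) t) = cHA I _ (u₁ t) from RingHom.congr_fun hh₀ t,
            show π₁ (cHA I _ (u₁ t)) = algebraMap B (H i) (θ₁ (u₁ t)) from RingHom.congr_fun hπ₁ _, hθt]
      refine (isHA I (x i)).ext _ (isHA_of_away (f i) (hH i)).hens ?_ (e0.trans (hπ i).symm)
      rw [e0]
      exact map_comp_le θ _
    obtain ⟨T₂, _, _, _, u₂, θ₂, hθ₂, h₂⟩ := exists_kill (hH i) θ₁ ((hθt _).trans (hx i)) π₁ hπ₁ (h₀ k)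
      ((RingHom.congr_fun e k).trans (hs _ (Finset.mem_insert_self _ _)))
    refine ⟨T₂, inferInstance, inferInstance, inferInstance, u₂.comp u₁, θ₂,
      by rw [← AlgHom.comp_assoc, hθ₂, hθ₁], fun q hq h hh => ?_⟩
    obtain ⟨g₁, hg₁⟩ := (isHA I (x q.1)).exists_map _ ((cHA I (u₁ (x q.1))).comp u₁.toRingHom)
      (isHA I (u₁ (x q.1))).hens
      (map_comp_le u₁ _)
      (isHA I (u₁ (x q.1))).unit
    obtain ⟨g₂, hg₂⟩ := (isHA I (u₁ (x q.1))).exists_map _ ((cHA I (u₂ (u₁ (x q.1)))).comp u₂.toRingHom)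
      (isHA I (u₂ (u₁ (x q.1)))).hens
      (map_comp_le u₂ _)
      (isHA I (u₂ (u₁ (x q.1)))).unit
    have ee : g₂.comp g₁ = h := by
      have e0 : (g₂.comp g₁).comp (cHA I (x q.1)) = (cHA I (u₂ (u₁ (x q.1)))).comp (u₂.comp u₁).toRingHom :=
        RingHom.ext fun t => by
          show g₂ (g₁ (cHA I (x q.1) t)) = _
          rw [show g₁ (cHA I (x q.1) t) = cHA I _ (u₁ t) from RingHom.congr_fun hg₁ t]
          exact RingHom.congr_fun hg₂ (u₁ t)
      refine (isHA I (x q.1)).ext _ (isHA I (u₂ (u₁ (x q.1)))).hens ?_ (e0.trans hh.symm)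
      rw [e0]
      exact map_comp_le (u₂.comp u₁) _
    rw [← ee]
    show g₂ (g₁ q.2) = 0
    rcases Finset.mem_insert.1 hq with rfl | hq'
    · rw [show g₁ = h₀ from (isHA I (x i)).ext _ (isHA I (u₁ (x i))).hens (by
        rw [hg₁]
        exact map_comp_le u₁ _)
        (hg₁.trans hh₀.symm)]
      exact h₂ g₂ hg₂
    · rw [h₁ q hq' g₁ hg₁, map_zero]

variable [∀ i, Algebra A (H i)] [∀ i, IsScalarTower A B (H i)]

theorem main [HenselianRing B (I.map (algebraMap A B))] (hf : Ideal.span (Set.range f) = ⊤)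
    (hH : ∀ i, Hens2.IsPairHenselization (Localization.Away (f i))
      (I.map (algebraMap A (Localization.Away (f i)))) (H i))
    {R : Fin n → Type u} [∀ i, CommRing (R i)] [∀ i, Algebra A (R i)]
    [∀ i, Algebra.FinitePresentation A (R i)] [∀ i, Algebra (R i) (H i)]
    [∀ i, IsScalarTower A (R i) (H i)]
    (hR : ∀ i, Hens2.IsPairHenselization (R i) (I.map (algebraMap A (R i))) (H i)) :
    ∃ (T : Type u) (_ : CommRing T) (_ : Algebra A T) (_ : Algebra T B) (_ : IsScalarTower A T B),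
      Algebra.FinitePresentation A T ∧ Hens2.IsPairHenselization T (I.map (algebraMap A T)) B := by
  classical
  let cB : ∀ i, B →+* H i := fun i => algebraMap B (H i)
  have hcB : ∀ i, IsHA I (f i) (cB i) := fun i => isHA_of_away (f i) (hH i)
  have hcR : ∀ i, IsHA I (1 : R i) (algebraMap (R i) (H i)) := fun i => isHA_of_pair (hR i)
  have hA : ∀ i, (algebraMap (R i) (H i)).comp (algebraMap A (R i)) = (cB i).comp (algebraMap A B) :=
    fun i => (IsScalarTower.algebraMap_eq A (R i) (H i)).symm.trans (IsScalarTower.algebraMap_eq A B (H i))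
  choose Ss hSs using fun i => exists_finset_surjective (hcB i) (hcR i) (hA i)
  obtain ⟨cf, hcf⟩ := Ideal.mem_span_range_iff_exists_fun.1 ((Ideal.eq_top_iff_one _).1 hf)
  let S : Finset B := Finset.univ.biUnion Ss
  let V := (Fin n ⊕ Fin n) ⊕ {b // b ∈ S}
  let P := MvPolynomial V A
  let θP : P →ₐ[A] B := MvPolynomial.aeval (Sum.elim (Sum.elim f cf) Subtype.val)
  let rel : P := ∑ i, MvPolynomial.X (Sum.inl (Sum.inr i)) * MvPolynomial.X (Sum.inl (Sum.inl i)) - 1
  have hrel : ∀ a ∈ Ideal.span {rel}, θP a = 0 := by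
    suffices h : Ideal.span {rel} ≤ RingHom.ker θP from fun a ha => h ha
    rw [Ideal.span_le, Set.singleton_subset_iff]
    show θP rel = 0
    simp only [rel, θP, map_sub, map_sum, map_mul, map_one]
    erw [Finset.sum_congr rfl fun i _ => congrArg₂ (· * ·) (MvPolynomial.aeval_X _ _) (MvPolynomial.aeval_X _ _)]
    exact sub_eq_zero.2 hcf
  let T₁ := P ⧸ Ideal.span {rel}
  haveI : Algebra.FinitePresentation A T₁ :=
    Algebra.FinitePresentation.quotient (Submodule.fg_span (Set.finite_singleton rel))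
  let θ₁ : T₁ →ₐ[A] B := Ideal.Quotient.liftₐ _ θP hrel
  let x₁ : Fin n → T₁ := fun i => Ideal.Quotient.mk _ (MvPolynomial.X (Sum.inl (Sum.inl i)))
  have hx₁ : ∀ i, θ₁ (x₁ i) = f i := fun i => MvPolynomial.aeval_X _ _
  have hπex : ∀ i, ∃ p : HA I (x₁ i) →+* H i, p.comp (cHA I (x₁ i)) = (cB i).comp θ₁.toRingHom := fun i =>
    (isHA I (x₁ i)).exists_map _ _ (hcB i).hens
      (map_comp_le θ₁ _)
      (by show IsUnit (cB i (θ₁ (x₁ i))); rw [hx₁]; exact (hcB i).unit)
  choose π₁ hπ₁ using hπex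
  have hsurj : ∀ i, Function.Surjective (π₁ i) := fun i =>
    hSs i T₁ θ₁ (x₁ i) (hx₁ i) (fun b hb => ⟨Ideal.Quotient.mk _
      (MvPolynomial.X (Sum.inr ⟨b, Finset.mem_biUnion.2 ⟨i, Finset.mem_univ _, hb⟩⟩)),
      MvPolynomial.aeval_X _ _⟩) (π₁ i) (hπ₁ i)
  have hfg : ∀ i, (RingHom.ker (π₁ i)).FG := fun i => fg_ker_stage (hcR i) (hA i) (π₁ i) (hπ₁ i) (hsurj i)
  choose G hG using hfg
  obtain ⟨T₂, _, _, _, u, θ₂, hθ₂, hkill⟩ := exists_kill_finset hH θ₁ x₁ hx₁ π₁ hπ₁ (Finset.univ.sigma G)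
    (fun p hp => (hG p.1).le (Ideal.subset_span (Finset.mem_sigma.1 hp).2))
  have hθt : ∀ t, θ₂ (u t) = θ₁ t := AlgHom.congr_fun hθ₂
  let g : ULift.{u} (Fin n) → T₂ := fun i => u (x₁ i.down)
  let IT : Ideal T₂ := I.map (algebraMap A T₂)
  have hhex : ∀ i, ∃ h : HA I (x₁ i) →+* HA I (u (x₁ i)),
      h.comp (cHA I (x₁ i)) = (cHA I (u (x₁ i))).comp u.toRingHom := fun i =>
    (isHA I (x₁ i)).exists_map _ _ (isHA I (u (x₁ i))).hens
      (map_comp_le u _)
      (isHA I (u (x₁ i))).unit
  choose h hh using hhex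
  have hle : ∀ i, RingHom.ker (π₁ i) ≤ RingHom.ker (h i) := fun i => by
    rw [← hG i]
    exact Ideal.span_le.2 fun k hk =>
      hkill ⟨i, k⟩ (Finset.mem_sigma.2 ⟨Finset.mem_univ _, hk⟩) (h i) (hh i)
  let s : ∀ i, H i →+* HA I (u (x₁ i)) := fun i => (π₁ i).liftOfSurjective (hsurj i) ⟨h i, hle i⟩
  have hs : ∀ i y, s i (π₁ i y) = h i y := fun i => RingHom.liftOfRightInverse_comp_apply _ _ _ _
  have hst : ∀ i t, s i (cB i (θ₁ t)) = cHA I _ (u t) := fun i t => by
    rw [show cB i (θ₁ t) = π₁ i (cHA I _ t) from (RingHom.congr_fun (hπ₁ i) t).symm, hs]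
    exact RingHom.congr_fun (hh i) t
  have hsA : ∀ i a, s i (cB i (algebraMap A B a)) = cHA I _ (algebraMap A T₂ a) := fun i a => by
    rw [← θ₁.commutes a, hst, u.commutes]
  let GG : Type u := GrothLib.Hensel.Hull T₂ (T₂ ⧸ IT)
  have hGG : Hens2.IsPairHenselization T₂ IT GG := GrothLib.Hensel.PairHull.isPairHenselization T₂ IT
  letI : Algebra A GG := ((algebraMap T₂ GG).comp (algebraMap A T₂)).toAlgebra
  haveI : IsScalarTower A T₂ GG := IsScalarTower.of_algebraMap_eq' rfl
  have hcov : IT ⊔ Ideal.span (Set.range g) = ⊤ := by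
    rw [Ideal.eq_top_iff_one]
    refine Ideal.mem_sup_right (Ideal.mem_span_range_iff_exists_fun.2
      ⟨fun i => u (Ideal.Quotient.mk _ (MvPolynomial.X (Sum.inl (Sum.inr i.down)))), ?_⟩)
    have h0 := congrArg u (Ideal.Quotient.eq_zero_iff_mem.2 (Ideal.mem_span_singleton_self rel))
    simp only [rel, map_sub, map_sum, map_mul, map_one, map_zero, sub_eq_zero] at h0
    rw [← h0, ← Equiv.sum_comp Equiv.ulift.symm]
    rfl
  have hHi : ∀ i : ULift.{u} (Fin n), Hens2.IsPairHenselization (Localization.Away (g i))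
      (IT.map (algebraMap T₂ (Localization.Away (g i)))) (HA I (g i)) := fun i => by
    rw [Ideal.map_map, ← IsScalarTower.algebraMap_eq]; exact isPairHenselization_HA I (g i)
  have hHij : ∀ i j : ULift.{u} (Fin n), Hens2.IsPairHenselization (Localization.Away (g i * g j))
      (IT.map (algebraMap T₂ (Localization.Away (g i * g j)))) (HA I (g i * g j)) := fun i j => by
    rw [Ideal.map_map, ← IsScalarTower.algebraMap_eq]; exact isPairHenselization_HA I (g i * g j)
  have hρex : ∀ i, ∃ r : GG →ₐ[T₂] HA I (g i), True := fun i => by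
    obtain ⟨r, hr, -⟩ := hGG.2 _ _ (cHA I (g i)) (isHA I (g i)).hens (by rw [Ideal.map_map])
    exact ⟨⟨r, RingHom.congr_fun hr⟩, trivial⟩
  choose ρ _ using hρex
  have hunit : ∀ i j : ULift.{u} (Fin n), IsUnit (cHA I (g i * g j) (g i)) ∧ IsUnit (cHA I (g i * g j) (g j)) :=
    fun i j => by
      have := (isHA I (g i * g j)).unit
      rw [map_mul, IsUnit.mul_iff] at this
      exact this
  have hσex : ∀ i j, ∃ r : HA I (g i) →ₐ[T₂] HA I (g i * g j), True := fun i j => by
    obtain ⟨r, hr⟩ := (isHA I (g i)).exists_map _ (cHA I (g i * g j)) (isHA I (g i * g j)).hens le_rfl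
      (hunit i j).1
    exact ⟨⟨r, RingHom.congr_fun hr⟩, trivial⟩
  choose σ _ using hσex
  have hτex : ∀ i j, ∃ r : HA I (g j) →ₐ[T₂] HA I (g i * g j), True := fun i j => by
    obtain ⟨r, hr⟩ := (isHA I (g j)).exists_map _ (cHA I (g i * g j)) (isHA I (g i * g j)).hens le_rfl
      (hunit i j).2
    exact ⟨⟨r, RingHom.congr_fun hr⟩, trivial⟩
  choose τ _ using hτex
  have hcomp : ∀ i j b, σ i j (s i.down (cB i.down b)) = τ i j (s j.down (cB j.down b)) := by
    intro i j
    let Y := HA I (g i * g j)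
    let a : H i.down →+* Y := (σ i j).toRingHom.comp (s i.down)
    let b' : B →+* Y := ((τ i j).toRingHom.comp (s j.down)).comp (cB j.down)
    have hb' : ∀ t, b' (θ₁ t) = cHA I (g i * g j) (u t) := fun t => by
      show τ i j (s j.down (cB j.down (θ₁ t))) = _
      rw [hst]
      exact (τ i j).commutes (u t)
    have hb'A : b'.comp (algebraMap A B) = (cHA I (g i * g j)).comp (algebraMap A T₂) := RingHom.ext fun y => by
      show b' (algebraMap A B y) = _
      rw [← θ₁.commutes y, hb', u.commutes]; rfl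
    obtain ⟨g', hg'⟩ := (hcB i.down).exists_map _ b' (isHA I (g i * g j)).hens (le_of_eq (by rw [hb'A])) (by
      rw [← hx₁, hb']; exact (hunit i j).1)
    have e1 : (a.comp (π₁ i.down)).comp (cHA I (x₁ i.down)) = (cHA I (g i * g j)).comp u.toRingHom :=
      RingHom.ext fun t => by
        show σ i j (s i.down (π₁ i.down (cHA I _ t))) = _
        rw [hs, show h i.down (cHA I _ t) = cHA I _ (u t) from RingHom.congr_fun (hh i.down) t]
        exact (σ i j).commutes (u t)
    have e2 : (g'.comp (π₁ i.down)).comp (cHA I (x₁ i.down)) = (cHA I (g i * g j)).comp u.toRingHom :=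
      RingHom.ext fun t => by
        show g' (π₁ i.down (cHA I _ t)) = _
        rw [show π₁ i.down (cHA I _ t) = cB i.down (θ₁ t) from RingHom.congr_fun (hπ₁ i.down) t,
          show g' (cB i.down (θ₁ t)) = b' (θ₁ t) from RingHom.congr_fun hg' _, hb']
        rfl
    have e3 : a.comp (π₁ i.down) = g'.comp (π₁ i.down) :=
      (isHA I (x₁ i.down)).ext _ (isHA I (g i * g j)).hens
        (by
          rw [e1]
          exact map_comp_le u _)
        (e1.trans e2.symm)
    intro b
    obtain ⟨y, hy⟩ := hsurj i.down (cB i.down b)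
    calc σ i j (s i.down (cB i.down b)) = a (π₁ i.down y) := by rw [hy]; rfl
      _ = g' (π₁ i.down y) := RingHom.congr_fun e3 y
      _ = b' b := by rw [hy]; exact RingHom.congr_fun hg' b
  choose σB hσB using fun b : B => GrothLib.HSheaf4.exists_glued IT g hcov hGG hHi hHij ρ σ τ
    (fun i => s i.down (cB i.down b)) (fun i j => hcomp i j b)
  have hinj := GrothLib.HSheaf4.eq_of_forall IT g hcov hGG hHi ρ
  let sB : B →+* GG :=
    { toFun := σB
      map_one' := hinj _ _ fun i => by rw [hσB, map_one, map_one, map_one]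
      map_mul' := fun p q => hinj _ _ fun i => by rw [hσB, map_mul, map_mul, map_mul, hσB, hσB]
      map_zero' := hinj _ _ fun i => by rw [hσB, map_zero, map_zero, map_zero]
      map_add' := fun p q => hinj _ _ fun i => by rw [hσB, map_add, map_add, map_add, hσB, hσB] }
  have hsBA : ∀ a, sB (algebraMap A B a) = algebraMap T₂ GG (algebraMap A T₂ a) := fun a => hinj _ _ fun i => by
    show ρ i (σB _) = _
    rw [hσB, hsA, AlgHom.commutes]
    rfl
  obtain ⟨p, hp, -⟩ := hGG.2 B (I.map (algebraMap A B)) θ₂.toRingHom inferInstance (by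
    rw [Ideal.map_map]
    exact le_of_eq (congrArg (fun r => Ideal.map r I) θ₂.comp_algebraMap))
  have hret : ∀ b, p (sB b) = b := by
    have hBB : Hens2.IsPairHenselization B (I.map (algebraMap A B)) B := by
      refine ⟨by rw [Algebra.algebraMap_self, Ideal.map_id]; infer_instance, fun C _ J k _ _ => ⟨k, rfl, fun k' hk' => hk'⟩⟩
    have hcovB : I.map (algebraMap A B) ⊔ Ideal.span (Set.range fun i : ULift.{u} (Fin n) => f i.down) = ⊤ := by
      rw [show Set.range (fun i : ULift.{u} (Fin n) => f i.down) = Set.range f from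
        Set.range_comp f ULift.down ▸ by rw [ULift.down_surjective.range_eq, Set.image_univ], hf, sup_top_eq]
    have hHB : ∀ i : ULift.{u} (Fin n), Hens2.IsPairHenselization (Localization.Away (f i.down))
        ((I.map (algebraMap A B)).map (algebraMap B (Localization.Away (f i.down)))) (H i.down) := fun i => by
      rw [Ideal.map_map, ← IsScalarTower.algebraMap_eq]; exact hH i.down
    intro b
    refine GrothLib.HSheaf4.eq_of_forall (I.map (algebraMap A B)) (fun i : ULift.{u} (Fin n) => f i.down) hcovB hBB hHB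
      (fun i => Algebra.ofId B (H i.down)) _ _ fun i => ?_
    show cB i.down (p (sB b)) = cB i.down b
    have hπ₂ : ∃ q : HA I (g i) →+* H i.down, q.comp (cHA I (g i)) = (cB i.down).comp θ₂.toRingHom :=
      (isHA I (g i)).exists_map _ _ (hcB i.down).hens
        (map_comp_le θ₂ _)
        (by show IsUnit (cB i.down (θ₂ (g i))); rw [hθt, hx₁]; exact (hcB i.down).unit)
    obtain ⟨q, hq⟩ := hπ₂
    have e1 : q.comp (ρ i).toRingHom = (cB i.down).comp p := by
      have e0 : ((cB i.down).comp p).comp (algebraMap T₂ GG) = (cB i.down).comp θ₂.toRingHom := by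
        rw [RingHom.comp_assoc, hp]
      refine (isHA_of_pair (I := I) hGG).ext _ (hcB i.down).hens ?_ ?_
      · refine le_of_eq (congrArg (fun r => Ideal.map r I) (RingHom.ext fun a => ?_))
        show q (ρ i (algebraMap T₂ GG (algebraMap A T₂ a))) = _
        rw [(ρ i).commutes]
        exact (RingHom.congr_fun hq _).trans (congrArg (cB i.down) (θ₂.commutes a))
      · rw [e0, ← hq]
        exact RingHom.ext fun t => congrArg q ((ρ i).commutes t)
    have e2 : q.comp (h i.down) = π₁ i.down := by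
      have e0 : (q.comp (h i.down)).comp (cHA I (x₁ i.down)) = (cB i.down).comp θ₁.toRingHom :=
        RingHom.ext fun t => by
          show q (h i.down (cHA I _ t)) = cB i.down (θ₁ t)
          rw [show h i.down (cHA I _ t) = cHA I _ (u t) from RingHom.congr_fun (hh i.down) t, ← hθt]
          exact RingHom.congr_fun hq (u t)
      refine (isHA I (x₁ i.down)).ext _ (hcB i.down).hens ?_ (e0.trans (hπ₁ i.down).symm)
      rw [e0]
      exact map_comp_le θ₁ _
    rw [show cB i.down (p (sB b)) = q (ρ i (σB b)) from (RingHom.congr_fun e1 (σB b)).symm, hσB]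
    obtain ⟨y, hy⟩ := hsurj i.down (cB i.down b)
    show q (s i.down (cB i.down b)) = cB i.down b
    rw [← hy, hs]
    exact RingHom.congr_fun e2 y
  have hpA : ∀ a, p (algebraMap T₂ GG (algebraMap A T₂ a)) = algebraMap A B a := fun a =>
    (RingHom.congr_fun hp _).trans (θ₂.commutes a)
  have hker : (RingHom.ker p).FG := by
    refine fg_ker_of_section (isHA_of_pair (I := I) hGG) p ⊥ Submodule.fg_bot bot_le
      ((Ideal.Quotient.mk ⊥).comp sB) (fun a => ?_) fun b y hy => ?_
    · show Ideal.Quotient.mk ⊥ (sB (p _)) = _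
      rw [hpA, hsBA]
    · have : y = sB b := by simpa [Ideal.Quotient.eq, sub_eq_zero] using hy
      rw [this, hret]
  obtain ⟨m, Q, _, _, _, _, hQ, φ, hφ, hφfg⟩ :=
    GrothLib.Hensel.exists_quotient_henselizedPolynomial_of_finitePresentation hGG
  let pA : GG →ₐ[A] B := ⟨p, hpA⟩
  refine GrothLib.Hensel.exists_finitePresentation_of_quotient_henselizedPolynomial m Q hQ (pA.comp φ)
    (fun b => (hφ (sB b)).elim fun y hy => ⟨y, (congrArg p hy).trans (hret b)⟩) ?_
  obtain ⟨F, hF⟩ := hker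
  choose w hw using fun y : GG => hφ y
  suffices hk : RingHom.ker (pA.comp φ) = RingHom.ker φ ⊔ Ideal.span (w '' (F : Set GG)) by
    rw [hk]; exact Submodule.FG.sup hφfg (Submodule.fg_span (F.finite_toSet.image _))
  refine le_antisymm (fun y hy => ?_) (sup_le (fun y hy => ?_) (Ideal.span_le.2 ?_))
  · have hy' : φ y ∈ (Ideal.span (w '' (F : Set GG))).map φ := by
      rw [Ideal.map_span, ← Set.image_comp, show (⇑φ ∘ w) '' (F : Set GG) = (F : Set GG) by
        rw [show ⇑φ ∘ w = id from funext hw, Set.image_id]]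
      exact hF.ge hy
    obtain ⟨z, hz, hzy⟩ := (Ideal.mem_map_iff_of_surjective φ hφ).1 hy'
    rw [← sub_add_cancel y z]
    exact Submodule.add_mem _ (Ideal.mem_sup_left (by rw [RingHom.mem_ker, map_sub, hzy, sub_self]))
      (Ideal.mem_sup_right hz)
  · show p (φ y) = 0
    rw [RingHom.mem_ker.1 hy, map_zero]
  · rintro _ ⟨y, hy, rfl⟩
    show p (φ (w y)) = 0
    rw [hw]
    exact hF.le (Ideal.subset_span hy)

end GrothLib.HHfpLoc4
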