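import Groth.Agent.Lib.HHfpLoc4.Basic
import Mathlib.RingTheory.FinitePresentation
import Mathlib.RingTheory.TensorProduct.Quotient

/-!
# Stages of a henselian finitely presented algebra
-/

set_option autoImplicit false

universe u

open scoped TensorProduct

noncomputable section

namespace GrothLib.HHfpLoc4

variable {A : Type u} [CommRing A] {I : Ideal A}

/-- A section modulo a finitely generated ideal makes the kernel finitely generated. -/
theorem fg_ker_of_section {T H : Type u} [CommRing T] [Algebra A T] [Algebra.FiniteType A T] [CommRing H]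
    {x : T} {c : T →+* H} (hc : IsHA I x c) {B : Type u} [CommRing B] (π : H →+* B) (G₀ : Ideal H)
    (hG : G₀.FG) (hle : G₀ ≤ RingHom.ker π) (s : B →+* H ⧸ G₀)
    (hsA : ∀ a, s (π (c (algebraMap A T a))) = Ideal.Quotient.mk G₀ (c (algebraMap A T a)))
    (hs : ∀ b y, Ideal.Quotient.mk G₀ y = s b → π y = b) : (RingHom.ker π).FG := by
  classical
  obtain ⟨gens, hgens⟩ := (Algebra.FiniteType.out : (⊤ : Subalgebra A T).FG)
  choose w hw using fun t : T => Ideal.Quotient.mk_surjective (s (π (c t)))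
  let G : Ideal H := G₀ ⊔ Ideal.span ((fun t => c t - w t) '' (gens : Set T))
  have hGle : G ≤ RingHom.ker π := sup_le hle (Ideal.span_le.2 (by
    rintro _ ⟨t, -, rfl⟩
    show π (c t - w t) = 0
    rw [map_sub, hs _ _ (hw t), sub_self]))
  suffices h : RingHom.ker π = G by
    rw [h]; exact Submodule.FG.sup hG (Submodule.fg_span ((gens.finite_toSet).image _))
  refine le_antisymm (fun y hy => ?_) hGle
  let q : H ⧸ G₀ →+* H ⧸ G := Ideal.Quotient.factor le_sup_left
  let g₁ : H →+* H ⧸ G := Ideal.Quotient.mk G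
  let g₂ : H →+* H ⧸ G := q.comp (s.comp π)
  haveI := hc.hens
  have hA : ∀ a, g₂ (c (algebraMap A T a)) = g₁ (c (algebraMap A T a)) := fun a => by
    show q (s (π _)) = _
    rw [hsA]; rfl
  have e : g₂ = g₁ := by
    refine hc.ext _ (GrothLib.Hensel.henselianRing_quotient G (I.map (c.comp (algebraMap A T)))) ?_ ?_
    · rw [Ideal.map_map]
      refine le_of_eq (congrArg (fun r => Ideal.map r I) (RingHom.ext hA))
    · letI : Algebra A (H ⧸ G) := ((g₁.comp c).comp (algebraMap A T)).toAlgebra
      let a₁ : T →ₐ[A] H ⧸ G := ⟨g₁.comp c, fun _ => rfl⟩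
      let a₂ : T →ₐ[A] H ⧸ G := ⟨g₂.comp c, hA⟩
      refine congrArg AlgHom.toRingHom (AlgHom.ext_of_adjoin_eq_top hgens (φ₁ := a₂) (φ₂ := a₁) fun t ht => ?_)
      show q (s (π (c t))) = Ideal.Quotient.mk G (c t)
      rw [← hw t]
      exact (Ideal.Quotient.eq.2 (Ideal.mem_sup_right (Ideal.subset_span (Set.mem_image_of_mem (fun t => c t - w t) ht)))).symm
  have h := RingHom.congr_fun e y
  rw [show g₂ y = q (s (π y)) from rfl, RingHom.mem_ker.1 hy, map_zero, map_zero] at h
  exact Ideal.Quotient.eq_zero_iff_mem.1 h.symm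

variable {B : Type u} [CommRing B] [Algebra A B]

section surj

variable {f : B} {H : Type u} [CommRing H] {c : B →+* H}

/-- The polynomial stage on a finite set. -/
abbrev PS (S : Finset B) : Type u := MvPolynomial (Option {b // b ∈ S}) A

/-- The map of a polynomial stage. -/
def θS (f : B) (S : Finset B) : PS (A := A) S →ₐ[A] B :=
  MvPolynomial.aeval fun o => o.elim f Subtype.val

theorem exists_finset_surjective (hc : IsHA I f c) {R : Type u} [CommRing R] [Algebra A R]
    [Algebra.FiniteType A R] {cR : R →+* H} (hR : IsHA I (1 : R) cR)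
    (hA : cR.comp (algebraMap A R) = c.comp (algebraMap A B)) :
    ∃ S : Finset B, ∀ (T : Type u) [CommRing T] [Algebra A T] (θ : T →ₐ[A] B) (x : T), θ x = f →
      (∀ b ∈ S, ∃ t, θ t = b) → ∀ π : HA I x →+* H, π.comp (cHA I x) = c.comp θ.toRingHom →
      Function.Surjective π := by
  classical
  let xS : ∀ S : Finset B, PS (A := A) S := fun _ => MvPolynomial.X none
  have hxS : ∀ S, θS f S (xS S) = f := fun S => MvPolynomial.aeval_X _ _
  have hex : ∀ S : Finset B, ∃ g : HA I (xS S) →+* H, g.comp (cHA I (xS S)) = c.comp (θS f S).toRingHom :=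
    fun S => (isHA I (xS S)).exists_map _ _ hc.hens (le_of_eq (congrArg (fun r => Ideal.map r I)
      (RingHom.ext fun a => congrArg c ((θS f S).commutes a)))) (by
      show IsUnit (c (θS f S (xS S)))
      rw [hxS]; exact hc.unit)
  choose g hg using hex
  have hgA : ∀ S a, g S (cHA I (xS S) (algebraMap A (PS (A := A) S) a)) = c (algebraMap A B a) := fun S a =>
    (RingHom.congr_fun (hg S) _).trans (congrArg c ((θS f S).commutes a))
  have hrange : ∀ (T : Type u) [CommRing T] [Algebra A T] (θ : T →ₐ[A] B) (x : T), θ x = f →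
      ∀ π : HA I x →+* H, π.comp (cHA I x) = c.comp θ.toRingHom →
      ∀ S : Finset B, (∀ b ∈ S, ∃ t, θ t = b) → (g S).range ≤ π.range := by
    intro T _ _ θ x hx π hπ S hS
    choose t ht using hS
    let v : PS (A := A) S →ₐ[A] T := MvPolynomial.aeval fun o => o.elim x fun b => t b.1 b.2
    have hv : θ.comp v = θS f S := by
      refine MvPolynomial.algHom_ext fun o => ?_
      rcases o with _ | b <;> simp [v, θS, hx, ht]
    obtain ⟨h, hh⟩ := (isHA I (xS S)).exists_map _ ((cHA I x).comp v.toRingHom) (isHA I x).hens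
      (le_of_eq (congrArg (fun r => Ideal.map r I) (RingHom.ext fun a => congrArg (cHA I x) (v.commutes a)))) (by
        show IsUnit (cHA I x (v (xS S)))
        rw [show v (xS S) = x from MvPolynomial.aeval_X _ _]; exact (isHA I x).unit)
    have e : π.comp h = g S := by
      refine (isHA I (xS S)).ext _ hc.hens ?_ ?_
      · refine le_of_eq (congrArg (fun r => Ideal.map r I) (RingHom.ext fun a => ?_))
        show π (h (cHA I (xS S) (algebraMap A (PS (A := A) S) a))) = c (algebraMap A B a)
        rw [show h (cHA I (xS S) _) = cHA I x (v _) from RingHom.congr_fun hh _, v.commutes,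
          show π (cHA I x _) = c (θ _) from RingHom.congr_fun hπ _, θ.commutes]
      · rw [RingHom.comp_assoc, hh, ← RingHom.comp_assoc, hπ, hg, ← hv]; rfl
    rintro _ ⟨y, rfl⟩
    exact ⟨h y, RingHom.congr_fun e y⟩
  let W : Finset B → Subring H := fun S => (g S).range
  have hdir : Directed (· ≤ ·) W := fun S S' => ⟨S ∪ S',
    hrange _ (θS f _) (xS _) (hxS _) _ (hg _) S fun b hb =>
      ⟨MvPolynomial.X (some ⟨b, Finset.mem_union_left _ hb⟩), MvPolynomial.aeval_X _ _⟩,
    hrange _ (θS f _) (xS _) (hxS _) _ (hg _) S' fun b hb =>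
      ⟨MvPolynomial.X (some ⟨b, Finset.mem_union_right _ hb⟩), MvPolynomial.aeval_X _ _⟩⟩
  have hmem : ∀ h, ∃ S, h ∈ W S := fun h => by
    refine exists_mem_of_directed hc W hdir (fun S a => ⟨_, hgA S a⟩) (fun S => ?_) (fun b => ?_) ?_ h
    · haveI := (isHA I (xS S)).hens
      have := henselianRing_range (I.map ((cHA I (xS S)).comp (algebraMap A (PS (A := A) S)))) (g S)
      rw [Ideal.map_map] at this
      convert this using 3
      exact RingHom.ext fun a => Subtype.ext (hgA S a).symm
    · refine ⟨{b}, cHA I (xS {b}) (MvPolynomial.X (some ⟨b, Finset.mem_singleton_self b⟩)), ?_⟩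
      exact (RingHom.congr_fun (hg {b}) _).trans (congrArg c (MvPolynomial.aeval_X _ _))
    · obtain ⟨y, hy⟩ := (isHA I (xS (∅ : Finset B))).unit.exists_right_inv
      refine ⟨∅, g ∅ y, ⟨y, rfl⟩, ?_⟩
      have h1 := congrArg (g ∅) hy
      rw [map_mul, map_one] at h1
      rw [← h1]
      exact congrArg (· * g ∅ y) ((congrArg c (hxS ∅)).symm.trans (RingHom.congr_fun (hg ∅) _).symm)
  obtain ⟨gens, hgens⟩ := (Algebra.FiniteType.out : (⊤ : Subalgebra A R).FG)
  choose Sg hSg using fun r : R => hmem (cR r)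
  refine ⟨gens.biUnion Sg, fun T _ _ θ x hx hS π hπ => ?_⟩
  have hπA : ∀ a, π (cHA I x (algebraMap A T a)) = c (algebraMap A B a) := fun a =>
    (RingHom.congr_fun hπ _).trans (congrArg c (θ.commutes a))
  have hsub : ∀ r, cR r ∈ π.range := by
    let U : Subalgebra A R :=
      { Subring.comap cR π.range with
        algebraMap_mem' := fun a => ⟨_, (hπA a).trans (RingHom.congr_fun hA a).symm⟩ }
    have : (⊤ : Subalgebra A R) ≤ U := hgens ▸ Algebra.adjoin_le fun r hr =>
      hrange T θ x hx π hπ (Sg r) (fun b hb => hS b (Finset.mem_biUnion.2 ⟨r, hr, hb⟩)) (hSg r)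
    exact fun r => this (Algebra.mem_top : r ∈ (⊤ : Subalgebra A R))
  haveI := (isHA I x).hens
  have hens := henselianRing_range (I.map ((cHA I x).comp (algebraMap A T))) π
  obtain ⟨w, hw⟩ := hR.exists_map _ (cR.codRestrict π.range hsub) hens (by
    rw [Ideal.map_map]
    refine le_of_eq (congrArg (fun r => Ideal.map r I) (RingHom.ext fun a => Subtype.ext ?_))
    exact ((hπA a).trans (RingHom.congr_fun hA a).symm).symm) (by rw [map_one]; exact isUnit_one)
  have e : π.range.subtype.comp w = RingHom.id H := by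
    have e1 : (π.range.subtype.comp w).comp cR = cR :=
      RingHom.ext fun r => congrArg Subtype.val (RingHom.congr_fun hw r)
    refine hR.ext _ hR.hens ?_ ?_
    · rw [e1]
    · rw [e1]; rfl
  intro h
  obtain ⟨y, hy⟩ := (w h).2
  exact ⟨y, hy.trans (RingHom.congr_fun e h)⟩

/-- The kernel of a surjection from a stage is finitely generated. -/
theorem fg_ker_stage {T : Type u} [CommRing T] [Algebra A T] [Algebra.FiniteType A T] {x : T}
    {θ : T →ₐ[A] B} {R : Type u} [CommRing R] [Algebra A R] [Algebra.FinitePresentation A R]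
    {cR : R →+* H} (hR : IsHA I (1 : R) cR) (hA : cR.comp (algebraMap A R) = c.comp (algebraMap A B))
    (π : HA I x →+* H) (hπ : π.comp (cHA I x) = c.comp θ.toRingHom) (hsurj : Function.Surjective π) :
    (RingHom.ker π).FG := by
  classical
  obtain ⟨m, φ, hφ, hfg⟩ := (inferInstance : Algebra.FinitePresentation A R).out
  choose w hw using fun i => hsurj (cR (φ (MvPolynomial.X i)))
  let aQ : A →+* HA I x := (cHA I x).comp (algebraMap A T)
  let U : MvPolynomial (Fin m) A →+* HA I x := MvPolynomial.eval₂Hom aQ w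
  have hπA : ∀ a, π (aQ a) = cR (algebraMap A R a) := fun a =>
    ((RingHom.congr_fun hπ _).trans (congrArg c (θ.commutes a))).trans (RingHom.congr_fun hA a).symm
  have hπU : π.comp U = cR.comp φ.toRingHom := MvPolynomial.ringHom_ext (fun a => by
    show π (U (MvPolynomial.C a)) = cR (φ (MvPolynomial.C a))
    rw [MvPolynomial.eval₂Hom_C, hπA]
    exact congrArg cR (φ.commutes a).symm) fun i => by
    show π (U (MvPolynomial.X i)) = cR (φ (MvPolynomial.X i))
    rw [MvPolynomial.eval₂Hom_X', hw]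
  let G₀ : Ideal (HA I x) := (RingHom.ker φ.toRingHom).map U
  have hG₀ : G₀ ≤ RingHom.ker π := Ideal.map_le_iff_le_comap.2 fun p hp => by
    show π (U p) = 0
    rw [show π (U p) = cR (φ p) from RingHom.congr_fun hπU p, show φ p = 0 from hp, map_zero]
  haveI := (isHA I x).hens
  let v : R →+* HA I x ⧸ G₀ := φ.toRingHom.liftOfSurjective hφ
    ⟨(Ideal.Quotient.mk G₀).comp U, fun p hp => Ideal.Quotient.eq_zero_iff_mem.2 (Ideal.mem_map_of_mem U hp)⟩
  have hv : ∀ p, v (φ p) = Ideal.Quotient.mk G₀ (U p) :=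
    RingHom.liftOfRightInverse_comp_apply _ _ _ _
  have hvA : v.comp (algebraMap A R) = (Ideal.Quotient.mk G₀).comp aQ := RingHom.ext fun a => by
    show v (algebraMap A R a) = _
    rw [← φ.commutes a, hv, MvPolynomial.algebraMap_eq, MvPolynomial.eval₂Hom_C]; rfl
  obtain ⟨s, hs⟩ := hR.exists_map _ v (GrothLib.Hensel.henselianRing_quotient G₀ (I.map aQ))
    (by rw [hvA, Ideal.map_map]) (by rw [map_one]; exact isUnit_one)
  let π₀ : HA I x ⧸ G₀ →+* H := Ideal.Quotient.lift G₀ π hG₀
  have e : π₀.comp s = RingHom.id H := by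
    have e1 : (π₀.comp s).comp cR = cR := by
      rw [RingHom.comp_assoc, hs]
      refine RingHom.ext fun r => ?_
      obtain ⟨p, rfl⟩ := hφ r
      show π₀ (v (φ p)) = _
      rw [hv]
      exact RingHom.congr_fun hπU p
    refine hR.ext _ hR.hens ?_ ?_
    · rw [e1]
    · rw [e1]; rfl
  refine fg_ker_of_section (isHA I x) π G₀ (hfg.map U) hG₀ s (fun a => ?_) fun b y hy => ?_
  · show s (π (aQ a)) = _
    rw [hπA]
    exact (RingHom.congr_fun hs _).trans (RingHom.congr_fun hvA a)
  · have := congrArg π₀ hy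
    exact (show π y = π₀ (Ideal.Quotient.mk G₀ y) from rfl).trans (this.trans (RingHom.congr_fun e b))

end surj

section kill

omit [Algebra A B] in
theorem aeval_retract {T : Type u} [CommRing T] [Algebra T B] [DecidableEq B] (S S' : Finset B) (h : ∀ b ∈ S', b ∈ S)
    (p : MvPolynomial {b // b ∈ S'} T) :
    MvPolynomial.aeval (Subtype.val : {b // b ∈ S} → B)
      (MvPolynomial.aeval (fun b : B => if hb : b ∈ S then (MvPolynomial.X ⟨b, hb⟩ : MvPolynomial {b // b ∈ S} T) else 0)
        (MvPolynomial.rename Subtype.val p)) = MvPolynomial.aeval id (MvPolynomial.rename Subtype.val p) := by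
  rw [MvPolynomial.aeval_rename, MvPolynomial.aeval_rename, ← AlgHom.comp_apply, MvPolynomial.comp_aeval]
  refine congrArg (fun φ : {b // b ∈ S'} → B => MvPolynomial.aeval φ p) (funext fun b => ?_)
  simp [h b.1 b.2]

variable {f : B} {H : Type u} [CommRing H] [Algebra (Localization.Away f) H] [Algebra B H]
  [IsScalarTower B (Localization.Away f) H]

set_option maxHeartbeats 1000000 in
/-- An element of a stage dying in the limit dies at a later stage. -/
theorem exists_kill
    (hH : Hens2.IsPairHenselization (Localization.Away f) (I.map (algebraMap A (Localization.Away f))) H)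
    {T : Type u} [CommRing T] [Algebra A T] [Algebra.FinitePresentation A T] (θ : T →ₐ[A] B) {x : T}
    (hx : θ x = f) (π : HA I x →+* H) (hπ : π.comp (cHA I x) = (algebraMap B H).comp θ.toRingHom)
    (k : HA I x) (hk : π k = 0) :
    ∃ (T' : Type u) (_ : CommRing T') (_ : Algebra A T') (_ : Algebra.FinitePresentation A T')
      (u : T →ₐ[A] T') (θ' : T' →ₐ[A] B), θ'.comp u = θ ∧
      ∀ h : HA I x →+* HA I (u x), h.comp (cHA I x) = (cHA I (u x)).comp u.toRingHom → h k = 0 := by
  classical
  have hH' : Hens2.IsPairHenselization (Localization.Away f)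
      ((I.map (algebraMap A B)).map (algebraMap B (Localization.Away f))) H := by
    rwa [Ideal.map_map, ← IsScalarTower.algebraMap_eq]
  have hT' : Hens2.IsPairHenselization (Localization.Away x)
      ((I.map (algebraMap A T)).map (algebraMap T (Localization.Away x))) (HA I x) := by
    rw [Ideal.map_map, ← IsScalarTower.algebraMap_eq]; exact isPairHenselization_HA I x
  obtain ⟨E, _, _, _, _, _, hE, ε, e, hε⟩ := GrothLib.HSheaf4.exists_stage x (HA I x) hT' k
  letI : Algebra T B := θ.toRingHom.toAlgebra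
  haveI : IsScalarTower A T B := IsScalarTower.of_algebraMap_eq fun a => (θ.commutes a).symm
  letI : Algebra T H := ((algebraMap B H).comp θ.toRingHom).toAlgebra
  haveI : IsScalarTower T B H := IsScalarTower.of_algebraMap_eq' rfl
  let πT : HA I x →ₐ[T] H := ⟨π, RingHom.congr_fun hπ⟩
  let ψ : B ⊗[T] E →ₐ[B] H :=
    Algebra.TensorProduct.lift (Algebra.ofId B H) (πT.comp ε) fun _ _ => Commute.all _ _
  haveI : Module.Flat B (Localization.Away f) := IsLocalization.flat _ (Submonoid.powers f)
  haveI : Module.Flat (Localization.Away f) H := (Groth.Agent.S1958.result _ _ _ hH').1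
  haveI : Module.Flat B H := Module.Flat.trans B (Localization.Away f) H
  letI : Algebra (B ⊗[T] E) H := ψ.toRingHom.toAlgebra
  haveI : IsScalarTower B (B ⊗[T] E) H := IsScalarTower.of_algebraMap_eq fun b => (ψ.commutes b).symm
  haveI : Module.Flat (B ⊗[T] E) H := GrothLib.RGProj13.flat_of_unramified_module B (B ⊗[T] E) H
  let JD : Ideal (B ⊗[T] E) := (I.map (algebraMap A B)).map (algebraMap B (B ⊗[T] E))
  let z : B ⊗[T] E := 1 ⊗ₜ e
  let N : Ideal (B ⊗[T] E) := LinearMap.ker (LinearMap.toSpanSingleton (B ⊗[T] E) (B ⊗[T] E) z)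
  have htop : N ⊔ JD = ⊤ := by
    by_contra hne
    obtain ⟨Q, hQ, hle⟩ := Ideal.exists_le_maximal _ hne
    letI : Field ((B ⊗[T] E) ⧸ Q) := Ideal.Quotient.field Q
    let mq : B ⊗[T] E →+* (B ⊗[T] E) ⧸ Q := Ideal.Quotient.mk Q
    let r : B →+* (B ⊗[T] E) ⧸ Q := mq.comp (algebraMap B (B ⊗[T] E))
    have hrI : ∀ b ∈ I.map (algebraMap A B), r b = 0 := fun b hb =>
      Ideal.Quotient.eq_zero_iff_mem.2 (hle (Ideal.mem_sup_right (Ideal.mem_map_of_mem _ hb)))
    have hfT : ∀ t : T, r (θ t) = mq (1 ⊗ₜ algebraMap T E t) := fun t => by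
      show mq (θ t ⊗ₜ 1) = _
      rw [show θ t = algebraMap T B t from rfl, Algebra.algebraMap_eq_smul_one,
        Algebra.algebraMap_eq_smul_one, TensorProduct.smul_tmul]
    have hru : IsUnit (r f) := by
      rw [← hx, hfT, IsScalarTower.algebraMap_apply T (Localization.Away x) E]
      exact (((IsLocalization.Away.algebraMap_isUnit (S := Localization.Away x) x).map _).map
        (Algebra.TensorProduct.includeRight : E →ₐ[T] B ⊗[T] E)).map mq
    obtain ⟨g, hg⟩ := GrothLib.HSheaf4.exists_extend_away (GrothLib.HSheaf4.quot_bij hH') r hrI hru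
    have hagree : g.comp (ψ.toRingHom.comp
        (Algebra.TensorProduct.includeRight : E →ₐ[T] B ⊗[T] E).toRingHom) =
        mq.comp (Algebra.TensorProduct.includeRight : E →ₐ[T] B ⊗[T] E).toRingHom := by
      have key : ∀ t : T, g (ψ (1 ⊗ₜ algebraMap T E t)) = mq (1 ⊗ₜ algebraMap T E t) := fun t => by
        rw [Algebra.TensorProduct.lift_tmul, map_one, one_mul, AlgHom.commutes]
        exact (RingHom.congr_fun hg (θ t)).trans (hfT t)
      refine GrothLib.HSheaf4.hom_ext_away hE.2 (RingHom.ext key) fun t ht => (key t).trans ?_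
      rw [← hfT]
      refine hrI _ ?_
      refine (Ideal.map_le_iff_le_comap.2 (fun a ha => ?_) :
        I.map (algebraMap A T) ≤ (I.map (algebraMap A B)).comap θ.toRingHom) ht
      show θ (algebraMap A T a) ∈ I.map (algebraMap A B)
      rw [θ.commutes]
      exact Ideal.mem_map_of_mem _ ha
    have hgψ : ∀ y, g (ψ y) = mq y := fun y => by
      induction y with
      | zero => simp only [map_zero]
      | add p q hp hq => simp only [map_add, hp, hq]
      | tmul b w =>
        rw [show b ⊗ₜ[T] w = algebraMap B (B ⊗[T] E) b * (1 ⊗ₜ w) by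
          rw [Algebra.TensorProduct.algebraMap_apply, Algebra.algebraMap_self, RingHom.id_apply,
            Algebra.TensorProduct.tmul_mul_tmul, mul_one, one_mul]]
        rw [map_mul, map_mul, map_mul, ψ.commutes]
        exact congrArg₂ (· * ·) (RingHom.congr_fun hg b) (RingHom.congr_fun hagree w)
    obtain ⟨c, hc, hcz⟩ := GrothLib.HSheaf4.exists_mul_eq_zero_of_flat g (d := z) (e := 1)
      (by rw [map_one]; exact one_ne_zero) (by
        show ψ z * 1 = 0
        rw [mul_one, Algebra.TensorProduct.lift_tmul, map_one, one_mul]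
        show π (ε e) = 0
        rw [hε, hk])
    refine hc ((hgψ c).trans (Ideal.Quotient.eq_zero_iff_mem.2 (hle (Ideal.mem_sup_left ?_))))
    show c * z = 0
    exact hcz
  obtain ⟨c, hc, i₀, hi₀, hsum⟩ := Submodule.mem_sup.1 (htop ▸ Submodule.mem_top : (1 : B ⊗[T] E) ∈ N ⊔ JD)
  let P := MvPolynomial B T
  let q : P →ₐ[T] B := MvPolynomial.aeval id
  have hq : Function.Surjective q := fun b => ⟨MvPolynomial.X b, MvPolynomial.aeval_X _ _⟩
  let qE : P ⊗[T] E →ₐ[T] B ⊗[T] E := Algebra.TensorProduct.map q (AlgHom.id T E)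
  have hqE : Function.Surjective qE := TensorProduct.map_surjective hq Function.surjective_id
  let aP : A →+* P ⊗[T] E :=
    (Algebra.TensorProduct.includeLeft : P →ₐ[T] P ⊗[T] E).toRingHom.comp ((algebraMap T P).comp (algebraMap A T))
  have hJD : JD = (I.map aP).map qE.toRingHom := by
    simp only [JD, Ideal.map_map]
    refine congrArg (fun r => Ideal.map r I) (RingHom.ext fun a => ?_)
    show algebraMap A B a ⊗ₜ[T] (1 : E) = qE (algebraMap T P (algebraMap A T a) ⊗ₜ 1)
    rw [Algebra.TensorProduct.map_tmul, map_one, q.commutes, ← IsScalarTower.algebraMap_apply]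
  obtain ⟨c', rfl⟩ := hqE c
  rw [hJD, Ideal.mem_map_iff_of_surjective qE.toRingHom hqE] at hi₀
  obtain ⟨i', hi', hqi⟩ := hi₀
  have hker : RingHom.ker qE = (RingHom.ker q).map
      (Algebra.TensorProduct.includeLeft : P →ₐ[T] P ⊗[T] E) := Algebra.TensorProduct.rTensor_ker q hq
  have hw₁ : 1 - c' - i' ∈ RingHom.ker qE := by
    rw [RingHom.mem_ker, map_sub, map_sub, map_one]
    rw [← hsum, ← hqi]
    show qE c' + qE i' - qE c' - qE i' = 0
    abel
  have hw₂ : c' * (1 ⊗ₜ e) ∈ RingHom.ker qE := by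
    rw [RingHom.mem_ker, map_mul, Algebra.TensorProduct.map_tmul, map_one, AlgHom.id_apply]
    exact hc
  rw [hker] at hw₁ hw₂
  obtain ⟨F₁, hF₁, hw₁'⟩ := Submodule.mem_span_finite_of_mem_span hw₁
  obtain ⟨F₂, hF₂, hw₂'⟩ := Submodule.mem_span_finite_of_mem_span hw₂
  have hall : ∀ y ∈ F₁ ∪ F₂, ∃ l, q l = 0 ∧ (l ⊗ₜ[T] (1 : E) : P ⊗[T] E) = y := fun y hy => by
    rcases Finset.mem_union.1 hy with h | h
    · exact hF₁ h
    · exact hF₂ h
  choose l hl hly using hall
  choose Sv pv hpv using fun y : ↥(F₁ ∪ F₂) => MvPolynomial.exists_finset_rename (l y.1 y.2)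
  let S : Finset B := Finset.univ.biUnion Sv
  let ret : P →ₐ[T] MvPolynomial {b // b ∈ S} T :=
    MvPolynomial.aeval fun b => if h : b ∈ S then MvPolynomial.X ⟨b, h⟩ else 0
  let qS : MvPolynomial {b // b ∈ S} T →ₐ[T] B := MvPolynomial.aeval Subtype.val
  have hqret : ∀ y : ↥(F₁ ∪ F₂), qS (ret (l y.1 y.2)) = 0 := fun y => by
    rw [← hl y.1 y.2, hpv y]
    exact aeval_retract S (Sv y) (fun b hb => Finset.mem_biUnion.2 ⟨y, Finset.mem_univ _, hb⟩) (pv y)
  let K : Ideal (MvPolynomial {b // b ∈ S} T) :=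
    Ideal.span (Set.range fun y : ↥(F₁ ∪ F₂) => ret (l y.1 y.2))
  have hK : K ≤ RingHom.ker qS := Ideal.span_le.2 (by
    rintro _ ⟨y, rfl⟩; exact hqret y)
  haveI : Algebra.FinitePresentation T (MvPolynomial {b // b ∈ S} T ⧸ K) :=
    Algebra.FinitePresentation.quotient (Submodule.fg_span (Set.finite_range _))
  haveI : Algebra.FinitePresentation A (MvPolynomial {b // b ∈ S} T ⧸ K) :=
    Algebra.FinitePresentation.trans A T _
  let T' := MvPolynomial {b // b ∈ S} T ⧸ K
  let u : T →ₐ[A] T' := IsScalarTower.toAlgHom A T T'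
  let θ' : T' →ₐ[A] B := (Ideal.Quotient.liftₐ K qS fun a ha => hK ha).restrictScalars A
  refine ⟨T', inferInstance, inferInstance, inferInstance, u, θ', AlgHom.ext fun t => ?_, fun h hh => ?_⟩
  · exact AlgHom.commutes (Ideal.Quotient.liftₐ K qS fun a ha => hK ha) t
  let cY : T' →+* HA I (u x) := cHA I (u x)
  letI : Algebra T (HA I (u x)) := (cY.comp u.toRingHom).toAlgebra
  let left : P →ₐ[T] HA I (u x) :=
    ⟨cY.comp ((Ideal.Quotient.mk K).comp ret.toRingHom), fun t => congrArg (fun y => cY (Ideal.Quotient.mk K y)) (ret.commutes t)⟩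
  let right : E →ₐ[T] HA I (u x) :=
    ⟨h.comp ε.toRingHom, fun t => (congrArg h (ε.commutes t)).trans (RingHom.congr_fun hh t)⟩
  let Φ : P ⊗[T] E →ₐ[T] HA I (u x) := Algebra.TensorProduct.lift left right fun _ _ => Commute.all _ _
  have hΦ : ∀ y ∈ F₁ ∪ F₂, Φ y = 0 := fun y hy => by
    rw [← hly y hy, Algebra.TensorProduct.lift_tmul, map_one, mul_one]
    show cY (Ideal.Quotient.mk K (ret (l y hy))) = 0
    rw [Ideal.Quotient.eq_zero_iff_mem.2 (Ideal.subset_span (Set.mem_range_self (f := fun y : ↥(F₁ ∪ F₂) => ret (l y.1 y.2)) ⟨y, hy⟩)), map_zero]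
  have hspan : ∀ F : Finset (P ⊗[T] E), F ⊆ F₁ ∪ F₂ → ∀ w ∈ Submodule.span (P ⊗[T] E) (F : Set _), Φ w = 0 :=
    fun F hF w hw => (Submodule.span_le (p := (RingHom.ker Φ : Ideal (P ⊗[T] E)))).2
      (fun y hy => hΦ y (hF hy)) hw
  have h₁ := hspan F₁ Finset.subset_union_left _ hw₁'
  have h₂ := hspan F₂ Finset.subset_union_right _ hw₂'
  haveI := (isHA I (u x)).hens
  have hjac : Φ i' ∈ Ideal.jacobson (⊥ : Ideal (HA I (u x))) := by
    refine HenselianRing.jac (I := I.map (cY.comp (algebraMap A T'))) ?_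
    have := Ideal.mem_map_of_mem Φ.toRingHom hi'
    rw [Ideal.map_map] at this
    refine (le_of_eq (congrArg (fun r => Ideal.map r I) (RingHom.ext fun a => ?_))) this
    show Φ (algebraMap T P (algebraMap A T a) ⊗ₜ 1) = cY (algebraMap A T' a)
    rw [Algebra.TensorProduct.lift_tmul, map_one, mul_one, left.commutes]
    exact congrArg cY (u.commutes a)
  have hc1 : Φ c' = 1 - Φ i' := by
    rw [map_sub, map_sub, map_one] at h₁
    linear_combination (-1 : HA I (u x)) * h₁
  have hu : IsUnit (Φ c') := by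
    rw [hc1, sub_eq_add_neg, add_comm]
    have := Ideal.mem_jacobson_bot.1 hjac (-1)
    rwa [mul_neg, mul_one] at this
  rw [map_mul, Algebra.TensorProduct.lift_tmul, map_one, one_mul] at h₂
  exact (hu.mul_right_eq_zero.1 h₂ : right e = 0) ▸ (congrArg h hε.symm)

end kill

end GrothLib.HHfpLoc4
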